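import Cfsg.Agent.H617.Pb.Defs
import Cfsg.Agent.H684.BlockTools
import Cfsg.Agent.Characters.SchurBound
import Cfsg.Agent.Characters.Values

/-!
# S4822, B2: lower bounds for `eps` (helper272)
-/

set_option autoImplicit false
set_option linter.unusedSectionVars false

open Cfsg
open scoped ComplexConjugate

namespace Cfsg.Agent.H272.Pb

open Cfsg.Agent.H617.Pb Cfsg.Agent.H684.BlockTools Cfsg.Agent.Characters

universe u

variable {Γ : Type u} [Group Γ] [Finite Γ] {p : ℕ} [Fact p.Prime] {M : Ideal AlgInt}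

/-- An element on which the irreducible character `χ` takes the value `χ 1` acts trivially. -/
theorem apply_mul_eq {G : Type u} [Group G] [Finite G] {χ : G → ℂ} (hχ : IsIrrCharacter G χ) {g : G}
    (hg : χ g = χ 1) (x : G) : χ (g * x) = χ x := by
  obtain ⟨n, ρ, hρ, rfl⟩ := hχ
  have h1 : ρ g = LinearMap.id :=
    (Cfsg.Agent.Characters.Values.character_eq_finrank_iff ρ g).1 (by
      rw [hg, Representation.char_one])
  have h2 : ρ (g * x) = ρ x := by
    rw [map_mul, h1]
    rfl
  show LinearMap.trace ℂ _ (ρ (g * x)) = LinearMap.trace ℂ _ (ρ x)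
  rw [h2]

/-- conjugation by an element normalising `N` -/
def cjN (N : Subgroup Γ) (c : Γ) (h1 : ∀ x ∈ N, c * x * c⁻¹ ∈ N) (h2 : ∀ x ∈ N, c⁻¹ * x * c ∈ N) : ↥N ≃* ↥N where
  toFun x := ⟨c * x * c⁻¹, h1 _ x.2⟩
  invFun x := ⟨c⁻¹ * x * c, h2 _ x.2⟩
  left_inv x := by
    apply Subtype.ext
    show c⁻¹ * (c * (x : Γ) * c⁻¹) * c = x
    group
  right_inv x := by
    apply Subtype.ext
    show c * (c⁻¹ * (x : Γ) * c) * c⁻¹ = x
    group
  map_mul' x y := by
    apply Subtype.ext
    show c * ((x : Γ) * y) * c⁻¹ = (c * x * c⁻¹) * (c * y * c⁻¹)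
    group

theorem exists_cj (N C : Subgroup Γ) (hn : ∀ c ∈ C, ∀ x ∈ N, c * x * c⁻¹ ∈ N) {c : Γ} (hc : c ∈ C) :
    ∃ f : ↥N ≃* ↥N, ∀ x y : ↥N, (y : Γ) = c * x * c⁻¹ → f x = y := by
  refine ⟨cjN N c (hn c hc) (fun x hx => ?_), fun x y h => Subtype.ext h.symm⟩
  have := hn c⁻¹ (inv_mem hc) x hx
  rwa [inv_inv] at this

theorem reg_iff {G : Type u} [Group G] (f : G ≃* G) (x : G) : IsPRegular p (f x) ↔ IsPRegular p x := by
  unfold IsPRegular
  rw [orderOf_injective f.toMonoidHom f.injective x |>.symm]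
  rfl

/-- the constant -/
noncomputable def f0 (p : ℕ) (N : Subgroup Γ) : ↥N → ℂ := pRegularPart p (fun _ : ↥N => (1 : ℂ))

theorem f0_mem (hM : IsPModular p M) (N C : Subgroup Γ) (hn : ∀ c ∈ C, ∀ x ∈ N, c * x * c⁻¹ ∈ N) :
    f0 p N ∈ Inv p M N C := by
  refine ⟨Submodule.subset_span ⟨triv ↥N, triv_mem hM, rfl⟩, ?_⟩
  intro c hc x y h
  obtain ⟨f, hf⟩ := exists_cj N C hn hc
  have h1 := reg_iff (p := p) f x
  rw [hf x y h] at h1
  unfold f0 pRegularPart
  by_cases h2 : IsPRegular p x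
  · rw [if_pos h2, if_pos (h1.2 h2)]
  · rw [if_neg h2, if_neg (fun h3 => h2 (h1.1 h3))]

theorem reg_one (N : Subgroup Γ) : IsPRegular p (1 : ↥N) := by
  unfold IsPRegular
  rw [orderOf_one]
  exact fun h => (Fact.out : p.Prime).one_lt.ne' (Nat.dvd_one.1 h)

theorem f0_one (N : Subgroup Γ) : f0 p N 1 = 1 := by
  unfold f0 pRegularPart
  rw [if_pos (reg_one N)]

/-- B2 -/
theorem eps_pos (hM : IsPModular p M) (N C : Subgroup Γ) (hn : ∀ c ∈ C, ∀ x ∈ N, c * x * c⁻¹ ∈ N) :
    1 ≤ eps p M N C := by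
  unfold eps
  rw [Nat.one_le_iff_ne_zero]
  intro h
  have h1 : Subsingleton ↥(Inv p M N C) := Module.finrank_zero_iff.1 h
  have h2 : (⟨f0 p N, f0_mem hM N C hn⟩ : ↥(Inv p M N C)) = 0 := Subsingleton.elim _ _
  have h3 : f0 p N = 0 := congrArg Subtype.val h2
  have h4 := congrFun h3 1
  rw [f0_one] at h4
  exact one_ne_zero h4

/-- the block component of the regular character -/
noncomputable def rh (M : Ideal AlgInt) (N : Subgroup Γ) [Fintype (principalBlock M ↥N)] : ↥N → ℂ :=
  fun x => ∑ χ : principalBlock M ↥N, ((χ : IrrCharacter ↥N) : ↥N → ℂ) 1 * ((χ : IrrCharacter ↥N) : ↥N → ℂ) x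

theorem rh_mem (hM : IsPModular p M) (N C : Subgroup Γ) (hn : ∀ c ∈ C, ∀ x ∈ N, c * x * c⁻¹ ∈ N)
    [Fintype (principalBlock M ↥N)] : pRegularPart p (rh M N) ∈ Inv p M N C := by
  classical
  refine ⟨?_, ?_⟩
  · have h1 : pRegularPart p (rh M N) = ∑ χ : principalBlock M ↥N, ((χ : IrrCharacter ↥N) : ↥N → ℂ) 1 •
        pRegularPart p ((χ : IrrCharacter ↥N) : ↥N → ℂ) := by
      funext x
      rw [Finset.sum_apply]
      unfold pRegularPart
      by_cases hx : IsPRegular p x
      · simp only [hx, if_true, Pi.smul_apply, smul_eq_mul]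
        rfl
      · simp only [hx, if_false, Pi.smul_apply, smul_eq_mul, mul_zero, Finset.sum_const_zero]
    rw [h1]
    exact Submodule.sum_mem _ fun χ _ => Submodule.smul_mem _ _ (Submodule.subset_span ⟨χ.1, χ.2, rfl⟩)
  · intro c hc x y h
    obtain ⟨f, hf⟩ := exists_cj N C hn hc
    have h1 := reg_iff (p := p) f x
    rw [hf x y h] at h1
    have h2 : rh M N y = rh M N x := by
      let F : principalBlock M ↥N → principalBlock M ↥N := fun χ =>
        ⟨infl f.toMonoidHom f.surjective χ.1, infl_mem hM f.toMonoidHom f.surjective χ.2⟩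
      have hF : Function.Bijective F := by
        apply Function.Injective.bijective_of_finite
        intro a b hab
        exact Subtype.ext (infl_injective f.toMonoidHom f.surjective (congrArg Subtype.val hab))
      unfold rh
      refine Eq.trans ?_ (hF.sum_comp (fun χ : principalBlock M ↥N =>
        ((χ : IrrCharacter ↥N) : ↥N → ℂ) 1 * ((χ : IrrCharacter ↥N) : ↥N → ℂ) x))
      apply Finset.sum_congr rfl
      intro χ _
      have e1 : (((F χ : principalBlock M ↥N) : IrrCharacter ↥N) : ↥N → ℂ) 1 = ((χ : IrrCharacter ↥N) : ↥N → ℂ) 1 := by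
        show ((χ : IrrCharacter ↥N) : ↥N → ℂ) (f 1) = _
        rw [map_one]
      have e2 : (((F χ : principalBlock M ↥N) : IrrCharacter ↥N) : ↥N → ℂ) x = ((χ : IrrCharacter ↥N) : ↥N → ℂ) y := by
        show ((χ : IrrCharacter ↥N) : ↥N → ℂ) (f x) = _
        rw [hf x y h]
      rw [e1, e2]
    unfold pRegularPart
    by_cases h3 : IsPRegular p x
    · rw [if_pos h3, if_pos (h1.2 h3), h2]
    · rw [if_neg h3, if_neg (fun h4 => h3 (h1.1 h4))]

/-- if all the terms of the sum at `g` have the maximal value -/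
theorem ker_of_eq {G : Type u} [Group G] [Finite G] {ι : Type u} [Fintype ι] (χ : ι → G → ℂ)
    (hχ : ∀ i, IsIrrCharacter G (χ i)) {g : G} (h : ∑ i, χ i 1 * χ i g = ∑ i, χ i 1 * χ i 1) :
    ∀ i, χ i g = χ i 1 := by
  have hd : ∀ i, ∃ d : ℕ, 0 < d ∧ χ i 1 = d := fun i => by
    obtain ⟨d, h1, h2⟩ := Cfsg.Agent.Characters.Core.isIrr_apply_one (hχ i)
    exact ⟨d, h1, h2⟩
  choose d hd0 hd using hd
  have hle : ∀ i, (χ i g).re ≤ d i := fun i =>
    (Complex.re_le_norm _).trans (Cfsg.Agent.Characters.SchurBound.norm_le (Core.isIrr_isCharacter (hχ i)) (hd i) g)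
  have h1 : ∑ i, (d i : ℝ) * ((d i : ℝ) - (χ i g).re) = 0 := by
    have h2 := congrArg Complex.re h
    simp only [hd] at h2
    rw [Complex.re_sum, Complex.re_sum] at h2
    simp only [Complex.mul_re, Complex.natCast_re, Complex.natCast_im, zero_mul, sub_zero] at h2
    simp only [mul_sub]
    rw [Finset.sum_sub_distrib, h2, sub_self]
  intro i
  have h2 := (Finset.sum_eq_zero_iff_of_nonneg (fun i _ => mul_nonneg (Nat.cast_nonneg (d i)) (sub_nonneg.2 (hle i)))).1 h1
    i (Finset.mem_univ i)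
  have h3 : (χ i g).re = d i := by
    rcases mul_eq_zero.1 h2 with h4 | h4
    · exact absurd (Nat.cast_eq_zero.1 h4) (hd0 i).ne'
    · linarith
  have h4 := Cfsg.Agent.Characters.SchurBound.norm_le (Core.isIrr_isCharacter (hχ i)) (hd i) g
  have h5 : (χ i g).im = 0 := by
    have h6 : ‖χ i g‖ ^ 2 = (χ i g).re ^ 2 + (χ i g).im ^ 2 := by
      rw [Complex.sq_norm, Complex.normSq_apply]
      ring
    have h7 : ‖χ i g‖ ^ 2 ≤ (d i : ℝ) ^ 2 := by
      exact pow_le_pow_left₀ (norm_nonneg _) h4 2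
    rw [h6, h3] at h7
    have h8 : (χ i g).im ^ 2 ≤ 0 := by linarith
    exact pow_eq_zero_iff two_ne_zero |>.1 (le_antisymm h8 (sq_nonneg _))
  rw [hd i]
  apply Complex.ext
  · rw [h3, Complex.natCast_re]
  · rw [h5, Complex.natCast_im]

/-- B2: `N` not `p`-nilpotent -/
theorem two_le_eps (hM : IsPModular p M) (N C : Subgroup Γ) (hn : ∀ c ∈ C, ∀ x ∈ N, c * x * c⁻¹ ∈ N)
    (v h : Γ) (hv : v ∈ N) (hh : h ∈ N) (hvp : orderOf v = p) (k : ℕ) (hk : h * v * h⁻¹ = v ^ k) (hk1 : v ^ k ≠ v) :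
    2 ≤ eps p M N C := by
  classical
  have hp : p.Prime := Fact.out
  have hfin := finite_principal (M := M) (G := ↥N)
  let _ : Fintype (principalBlock M ↥N) := Fintype.ofFinite _
  let a : ↥(Inv p M N C) := ⟨f0 p N, f0_mem hM N C hn⟩
  let b : ↥(Inv p M N C) := ⟨pRegularPart p (rh M N), rh_mem hM N C hn⟩
  have hli : LinearIndependent ℂ ![a, b] := by
    rw [LinearIndependent.pair_iff]
    intro s t hst
    have hst' : ∀ x : ↥N, IsPRegular p x → s + t * rh M N x = 0 := by
      intro x hx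
      have h1 := congrFun (congrArg Subtype.val hst) x
      have h2 : s * f0 p N x + t * pRegularPart p (rh M N) x = 0 := h1
      unfold f0 pRegularPart at h2
      rw [if_pos hx, if_pos hx, mul_one] at h2
      exact h2
    have ht : t = 0 := by
      by_contra ht
      have hone := hst' 1 (reg_one N)
      -- the `p`-regular elements are in the kernels
      have hker : ∀ x : ↥N, IsPRegular p x → ∀ χ : principalBlock M ↥N,
          ((χ : IrrCharacter ↥N) : ↥N → ℂ) x = ((χ : IrrCharacter ↥N) : ↥N → ℂ) 1 := by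
        intro x hx
        refine ker_of_eq (fun χ : principalBlock M ↥N => ((χ : IrrCharacter ↥N) : ↥N → ℂ))
          (fun χ => (χ : IrrCharacter ↥N).2) ?_
        have h1 := hst' x hx
        have h2 : t * rh M N x = t * rh M N 1 := by linear_combination h1 - hone
        exact mul_left_cancel₀ ht h2
      -- the `p`-regular part of `h`
      let h' : ↥N := ⟨h, hh⟩
      let v' : ↥N := ⟨v, hv⟩
      have ho : orderOf h' ≠ 0 := (orderOf_pos h').ne'
      obtain ⟨n, r, hr, hnr⟩ := Nat.exists_eq_pow_mul_and_not_dvd ho p hp.ne_one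
      let g : ↥N := h' ^ p ^ n
      have hg : IsPRegular p g := by
        unfold IsPRegular
        have h1 : orderOf g ∣ r := by
          apply orderOf_dvd_of_pow_eq_one
          rw [← pow_mul, ← hnr, pow_orderOf_eq_one]
        exact fun h2 => hr (h2.trans h1)
      have hconj : ∀ m : ℕ, h' ^ m * v' * (h' ^ m)⁻¹ = v' ^ (k ^ m) := by
        intro m
        induction m with
        | zero => simp
        | succ m ih =>
          have hk' : h' * v' * h'⁻¹ = v' ^ k := Subtype.ext hk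
          have h1 : h' ^ (m + 1) * v' * (h' ^ (m + 1))⁻¹ = h' * (h' ^ m * v' * (h' ^ m)⁻¹) * h'⁻¹ := by
            rw [pow_succ']
            group
          rw [h1, ih, ← conj_pow, hk', ← pow_mul, pow_succ']
      have hov : orderOf v' = p := by
        rw [← hvp]
        exact (Subgroup.orderOf_coe v').symm
      have hgv : g * v' * g⁻¹ = v' ^ k := by
        rw [hconj (p ^ n)]
        rw [pow_eq_pow_iff_modEq, hov, ← ZMod.natCast_eq_natCast_iff]
        push_cast
        exact ZMod.pow_card_pow (k : ZMod p)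
      -- `w = v ^ k v⁻¹` is in the kernels
      let w : ↥N := v' ^ k * v'⁻¹
      have hw1 : w ≠ 1 := by
        intro h1
        apply hk1
        have h2 : v' ^ k = v' := mul_inv_eq_one.1 h1
        exact congrArg Subtype.val h2
      have hwp : ∃ j : ℕ, orderOf w = p ^ j := by
        have h1 : orderOf w ∣ p := by
          apply orderOf_dvd_of_pow_eq_one
          have h2 : w ^ p = (v' ^ k) ^ p * (v'⁻¹) ^ p := by
            have : Commute (v' ^ k) v'⁻¹ := ((Commute.refl v').pow_left k).inv_right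
            exact this.mul_pow p
          rw [h2, ← pow_mul, mul_comm k p, pow_mul, inv_pow, ← hov, pow_orderOf_eq_one]
          simp
        rcases (Nat.dvd_prime hp).1 h1 with h2 | h2
        · exact ⟨0, by rw [h2, pow_zero]⟩
        · exact ⟨1, by rw [h2, pow_one]⟩
      have hwk : ∀ χ : principalBlock M ↥N,
          ((χ : IrrCharacter ↥N) : ↥N → ℂ) w = ((χ : IrrCharacter ↥N) : ↥N → ℂ) 1 := by
        intro χ
        have h1 : w = g * (v' * g⁻¹ * v'⁻¹) := by
          show v' ^ k * v'⁻¹ = _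
          rw [← hgv]
          group
        rw [h1, apply_mul_eq (χ : IrrCharacter ↥N).2 (hker g hg χ)]
        have h2 : ((χ : IrrCharacter ↥N) : ↥N → ℂ) (v' * g⁻¹ * v'⁻¹) = ((χ : IrrCharacter ↥N) : ↥N → ℂ) g⁻¹ :=
          Core.isIrr_isClassFunction (χ : IrrCharacter ↥N).2 g⁻¹ v'
        rw [h2]
        refine hker g⁻¹ ?_ χ
        unfold IsPRegular
        rw [orderOf_inv]
        exact hg
      have horth := orth (G := ↥N) hM (x := w) (y := 1) hwp ⟨0, by rw [orderOf_one, pow_zero]⟩ (by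
        intro h1
        exact hw1 (isConj_one_left.1 h1))
      rw [← finsum_set_coe_eq_finsum_mem, finsum_eq_sum_of_fintype] at horth
      simp only [hwk] at horth
      have hd : ∀ χ : principalBlock M ↥N, ∃ d : ℕ, 0 < d ∧ ((χ : IrrCharacter ↥N) : ↥N → ℂ) 1 = d := fun χ => by
        obtain ⟨d, h1, h2⟩ := Cfsg.Agent.Characters.Core.isIrr_apply_one (χ : IrrCharacter ↥N).2
        exact ⟨d, h1, h2⟩
      choose d hd0 hd using hd
      simp only [hd, Complex.conj_natCast] at horth
      have h3 : ((∑ χ : principalBlock M ↥N, d χ * d χ : ℕ) : ℂ) = 0 := by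
        push_cast
        exact horth
      have h4 : ∑ χ : principalBlock M ↥N, d χ * d χ = 0 := by exact_mod_cast h3
      have h5 := (Finset.sum_eq_zero_iff.1 h4) ⟨triv ↥N, triv_mem hM⟩ (Finset.mem_univ _)
      have h6 := hd0 ⟨triv ↥N, triv_mem hM⟩
      rcases mul_eq_zero.1 h5 with h7 | h7 <;> omega
    refine ⟨?_, ht⟩
    have h1 := hst' 1 (reg_one N)
    rw [ht, zero_mul, add_zero] at h1
    exact h1
  have h1 := hli.fintype_card_le_finrank
  rw [Fintype.card_fin] at h1
  exact h1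

end Cfsg.Agent.H272.Pb
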